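import Mathlib

/-! Line modules detected by one-dimensional fibre duals. -/

set_option autoImplicit false

universe u

open TensorProduct

namespace Groth.Agent.QCohMorita

/-- If all endomorphisms are scalars, any vector is a multiple of any non-zero one. -/
theorem exists_smul_eq {κ V : Type*} [Field κ] [AddCommGroup V] [Module κ V]
    (h : ∀ T : V →ₗ[κ] V, ∃ c : κ, ∀ x, T x = c • x) {v : V} (hv : v ≠ 0) (w : V) : ∃ c : κ, w = c • v := by
  obtain ⟨φ, hφ⟩ := Module.Projective.exists_dual_ne_zero κ hv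
  obtain ⟨c, hc⟩ := h (((φ v)⁻¹ • φ).smulRight w)
  refine ⟨c, ?_⟩
  have := hc v
  simpa [inv_mul_cancel₀ hφ] using this

/-- Linear endomorphisms of a residue field are multiplications. -/
theorem linearMap_residueField {A : Type u} [CommRing A] (p : Ideal A) [p.IsPrime]
    (l : p.ResidueField →ₗ[A] p.ResidueField) (x : p.ResidueField) : l x = l 1 * x := by
  obtain ⟨a, b, hb, rfl⟩ := IsFractionRing.div_surjective (A := A ⧸ p) x
  obtain ⟨a, rfl⟩ := Ideal.Quotient.mk_surjective a
  obtain ⟨b, rfl⟩ := Ideal.Quotient.mk_surjective b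
  change l (algebraMap A p.ResidueField a / algebraMap A p.ResidueField b) =
    l 1 * (algebraMap A p.ResidueField a / algebraMap A p.ResidueField b)
  have hb' : algebraMap A p.ResidueField b ≠ 0 := by
    have : Ideal.Quotient.mk p b ≠ 0 := nonZeroDivisors.ne_zero hb
    rwa [ne_eq, ← map_eq_zero_iff (algebraMap (A ⧸ p) p.ResidueField) (IsFractionRing.injective _ _)] at this
  have h2 : b • (algebraMap A p.ResidueField a / algebraMap A p.ResidueField b) = a • (1 : p.ResidueField) := by
    rw [Algebra.smul_def, mul_div_cancel₀ _ hb', Algebra.algebraMap_eq_smul_one]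
  have h1 := (l.map_smul b _).symm.trans ((congrArg l h2).trans (l.map_smul a 1))
  rw [Algebra.smul_def, Algebra.smul_def] at h1
  rw [← mul_div_assoc, eq_div_iff hb', mul_comm (l 1), ← h1, mul_comm]

variable {A M : Type u} [CommRing A] [AddCommGroup M] [Module A M]

/-- A finite module with one-dimensional fibre duals is a line where a functional is a unit. -/
theorem exists_smul_mem_span [Module.Finite A M] (p : Ideal A) [p.IsPrime]
    (hV : ∀ T : (M →ₗ[A] p.ResidueField) →ₗ[p.ResidueField] (M →ₗ[A] p.ResidueField),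
      ∃ c : p.ResidueField, ∀ x, T x = c • x)
    (φ : M →ₗ[A] A) (m₀ : M) (hm : φ m₀ ∉ p) : ∃ g : A, g ∉ p ∧ ∀ y, ∃ a : A, g • y = a • m₀ := by
  by_contra hcon
  let N : Submodule A M := Submodule.span A {m₀}
  have hsupp : (⟨p, inferInstance⟩ : PrimeSpectrum A) ∈ Module.support A (M ⧸ N) := by
    rw [Module.support_eq_zeroLocus, PrimeSpectrum.mem_zeroLocus]
    intro g hg
    by_contra hgp
    refine hcon ⟨g, hgp, fun y => ?_⟩
    have h := Module.mem_annihilator.1 hg (N.mkQ y)
    rw [← map_smul, Submodule.mkQ_apply, Submodule.Quotient.mk_eq_zero, Submodule.mem_span_singleton] at h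
    obtain ⟨a, ha⟩ := h
    exact ⟨a, ha.symm⟩
  haveI : Nontrivial (p.ResidueField ⊗[A] (M ⧸ N)) :=
    (Module.mem_support_iff_nontrivial_residueField_tensorProduct (⟨p, inferInstance⟩ : PrimeSpectrum A)).1 hsupp
  obtain ⟨z, hz⟩ := exists_ne (0 : p.ResidueField ⊗[A] (M ⧸ N))
  obtain ⟨ψ, hψ⟩ := Module.Projective.exists_dual_ne_zero p.ResidueField hz
  let w : M →ₗ[A] p.ResidueField :=
    (((ψ.restrictScalars A).comp (TensorProduct.mk A p.ResidueField (M ⧸ N) 1))).comp N.mkQ
  let v : M →ₗ[A] p.ResidueField := (Algebra.linearMap A p.ResidueField).comp φ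
  have hv0 : v m₀ ≠ 0 := by
    show algebraMap A p.ResidueField (φ m₀) ≠ 0
    rw [ne_eq, Ideal.algebraMap_residueField_eq_zero]
    exact hm
  have hv : v ≠ 0 := fun h => hv0 (by rw [h]; rfl)
  obtain ⟨c, hc⟩ := exists_smul_eq hV hv w
  have hw0 : w m₀ = 0 := by
    show ψ (1 ⊗ₜ N.mkQ m₀) = 0
    rw [Submodule.mkQ_apply, (Submodule.Quotient.mk_eq_zero N).2 (Submodule.subset_span rfl)]
    simp
  have hc0 : c = 0 := by
    have := LinearMap.congr_fun hc m₀
    rw [hw0] at this
    simpa [hv0] using this.symm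
  have hw : w = 0 := by rw [hc, hc0, zero_smul]
  apply hψ
  clear hz hψ
  induction z using TensorProduct.induction_on with
  | zero => simp
  | tmul x y =>
    obtain ⟨y, rfl⟩ := N.mkQ_surjective y
    rw [show x ⊗ₜ[A] N.mkQ y = x • (1 ⊗ₜ[A] N.mkQ y) by simp [TensorProduct.smul_tmul'], map_smul]
    rw [show ψ (1 ⊗ₜ[A] N.mkQ y) = w y from rfl, hw]
    simp
  | add a b ha hb => rw [map_add, ha, hb, add_zero]

end Groth.Agent.QCohMorita
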