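import Groth.Prelude.Def_QCohCat
import Groth.Agent.QCohGab.Groth
import Groth.Agent.QCohMorita.Alg
import Groth.Agent.QCoh.ExtendFT
import Groth.Agent.QCoh.LocFree
import Groth.Agent.QCoh.Qcqs
import Groth.Agent.QCoh.Support
import Groth.Agent.CohBasic.SerreSurj
import Groth.Agent.CohBasic.EulerBC
import Groth.Agent.ExtFX.Proj
import Groth.Agent.H23.PicInv
import Groth.Agent.InvX.Tensor
import Groth.Agent.ExtPowSh.Functor

/-! A scheme whose quasi-coherent modules are modules over a ring is affine. -/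

set_option autoImplicit false
set_option linter.style.haveILetI false
set_option backward.isDefEq.respectTransparency false
set_option backward.isDefEq.respectTransparency.types false

universe u

open CategoryTheory CategoryTheory.Limits AlgebraicGeometry TopologicalSpace Opposite

noncomputable section

namespace Groth.Agent.QCohMorita

variable {X : Scheme.{u}}

section morita

variable {R : Type u} [CommRing R] (e : QCohCat.QCoh X ≌ ModuleCat.{u} R)

/-- The generator. -/
def gen : QCohCat.QCoh X := e.inverse.obj (ModuleCat.of R R)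

/-- Morphisms out of the generator are elements. -/
def el {F : QCohCat.QCoh X} (w : gen e ⟶ F) : e.functor.obj F :=
  (e.counitIso.inv.app (ModuleCat.of R R) ≫ e.functor.map w).hom (1 : R)

theorem el_bijective (F : QCohCat.QCoh X) : Function.Bijective (el e (F := F)) := by
  have h1 : Function.Bijective fun w : gen e ⟶ F =>
      e.counitIso.inv.app (ModuleCat.of R R) ≫ e.functor.map w :=
    ⟨fun w w' h => e.functor.map_injective ((cancel_epi (e.counitIso.inv.app (ModuleCat.of R R))).1 h),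
      fun g => ⟨e.fullyFaithfulFunctor.preimage (e.counitIso.hom.app (ModuleCat.of R R) ≫ g), by
        show e.counitIso.inv.app _ ≫ e.functor.map _ = g
        rw [Functor.FullyFaithful.map_preimage, Iso.inv_hom_id_app_assoc]⟩⟩
  have h2 : Function.Bijective fun g : ModuleCat.of R R ⟶ e.functor.obj F => g.hom (1 : R) :=
    ⟨fun g g' h => ModuleCat.hom_ext (LinearMap.ext_ring h),
      fun y => ⟨ModuleCat.ofHom (LinearMap.toSpanSingleton R _ y), LinearMap.toSpanSingleton_apply_one R _ y⟩⟩
  exact h2.comp h1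

theorem el_comp {F F' : QCohCat.QCoh X} (w : gen e ⟶ F) (g : F ⟶ F') :
    el e (w ≫ g) = (e.functor.map g).hom (el e w) := by
  show (e.counitIso.inv.app _ ≫ e.functor.map (w ≫ g)).hom (1 : R) = _
  rw [e.functor.map_comp]
  rfl

theorem el_add [e.functor.Additive] {F : QCohCat.QCoh X} (w w' : gen e ⟶ F) :
    el e (w + w') = el e w + el e w' := by
  show (e.counitIso.inv.app _ ≫ e.functor.map (w + w')).hom (1 : R) = _
  rw [e.functor.map_add, Preadditive.comp_add]
  rfl

/-- A scalar as an endomorphism of the generator. -/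
def sca (r : R) : gen e ⟶ gen e :=
  e.fullyFaithfulFunctor.preimage
    (e.counitIso.hom.app (ModuleCat.of R R) ≫
      (ModuleCat.ofHom (LinearMap.toSpanSingleton R R r) : ModuleCat.of R R ⟶ ModuleCat.of R R) ≫
      e.counitIso.inv.app (ModuleCat.of R R))

theorem el_sca {F : QCohCat.QCoh X} (r : R) (w : gen e ⟶ F) : el e (sca e r ≫ w) = r • el e w := by
  have h : e.counitIso.inv.app (ModuleCat.of R R) ≫ e.functor.map (sca e r ≫ w) =
      (ModuleCat.ofHom (LinearMap.toSpanSingleton R R r) : ModuleCat.of R R ⟶ ModuleCat.of R R) ≫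
        (e.counitIso.inv.app (ModuleCat.of R R) ≫ e.functor.map w) := by
    simp [sca, gen]
  show (e.counitIso.inv.app (ModuleCat.of R R) ≫ e.functor.map (sca e r ≫ w)).hom (1 : R) = _
  rw [h]
  show (e.counitIso.inv.app (ModuleCat.of R R) ≫ e.functor.map w).hom ((1 : R) • r) = _
  rw [one_smul]
  conv_lhs => rw [show r = r • (1 : R) by simp]
  exact LinearMap.map_smul _ _ _

theorem sca_comm {F : QCohCat.QCoh X} (r s : R) (w : gen e ⟶ F) :
    sca e r ≫ sca e s ≫ w = sca e s ≫ sca e r ≫ w := by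
  apply (el_bijective e F).1
  rw [el_sca, el_sca, el_sca, el_sca, smul_comm]

/-- The generator detects morphisms. -/
theorem gen_ext [e.functor.Additive] {F F' : QCohCat.QCoh X} (g : F ⟶ F') (h : ∀ w : gen e ⟶ F, w ≫ g = 0) : g = 0 := by
  apply e.functor.map_injective
  rw [Functor.map_zero]
  refine ModuleCat.hom_ext (LinearMap.ext fun x => ?_)
  obtain ⟨w, rfl⟩ := (el_bijective e F).2 x
  rw [← el_comp, h]
  simp [el]

/-- Morphisms lift against epimorphisms. -/
theorem gen_lift {F F' : QCohCat.QCoh X} (p : F ⟶ F') [Epi p] (q : gen e ⟶ F') : ∃ w, w ≫ p = q := by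
  obtain ⟨y, hy⟩ := (ModuleCat.epi_iff_surjective (e.functor.map p)).1 inferInstance (el e q)
  obtain ⟨w, rfl⟩ := (el_bijective e F).2 y
  exact ⟨w, (el_bijective e F').1 ((el_comp e w p).trans hy)⟩

/-- Operations commuting with the scalars come from endomorphisms of the target. -/
theorem exists_post [e.functor.Additive] {Z : QCohCat.QCoh X} (T : (gen e ⟶ Z) →+ (gen e ⟶ Z))
    (hT : ∀ r w, T (sca e r ≫ w) = sca e r ≫ T w) : ∃ ψ : Z ⟶ Z, ∀ w, T w = w ≫ ψ := by
  let E : (gen e ⟶ Z) ≃+ e.functor.obj Z :=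
    { Equiv.ofBijective _ (el_bijective e Z) with map_add' := el_add e }
  have hE : ∀ w, E w = el e w := fun _ => rfl
  let L : e.functor.obj Z →ₗ[R] e.functor.obj Z :=
    { toFun := fun x => E (T (E.symm x))
      map_add' := fun a b => by simp
      map_smul' := fun r x => by
        have h : E.symm (r • x) = sca e r ≫ E.symm x := by
          apply E.injective
          rw [E.apply_symm_apply, hE, el_sca, ← hE, E.apply_symm_apply]
        simp only [h, hT, RingHom.id_apply]
        rw [hE, el_sca, ← hE] }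
  refine ⟨e.fullyFaithfulFunctor.preimage (ModuleCat.ofHom L), fun w => E.injective ?_⟩
  rw [hE (w ≫ _), el_comp, Functor.FullyFaithful.map_preimage]
  show E (T w) = E (T (E.symm (el e w)))
  rw [← hE, E.symm_apply_apply]

/-- Finitely many members of a jointly epimorphic family suffice. -/
theorem exists_finite_jointly [e.functor.Additive] {ι : Type*} {N : ι → QCohCat.QCoh X}
    (m : ∀ i, N i ⟶ gen e) (h : ∀ (Z : QCohCat.QCoh X) (g : gen e ⟶ Z), (∀ i, m i ≫ g = 0) → g = 0) :
    ∃ s : Finset ι, ∀ (Z : QCohCat.QCoh X) (g : gen e ⟶ Z), (∀ i ∈ s, m i ≫ g = 0) → g = 0 := by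
  classical
  let rg : ι → Submodule R R := fun i => LinearMap.range (e.functor.map (m i) ≫ e.counitIso.hom.app (ModuleCat.of R R)).hom
  let q : ModuleCat.of R R ⟶ ModuleCat.of R (R ⧸ ⨆ i, rg i) := ModuleCat.ofHom (⨆ i, rg i).mkQ
  have htop : (⨆ i, rg i) = ⊤ := by
    let g : gen e ⟶ e.inverse.obj (ModuleCat.of R (R ⧸ ⨆ i, rg i)) := e.inverse.map q
    have hg : g = 0 := h _ g fun i => by
      apply e.functor.map_injective
      rw [Functor.map_zero, Functor.map_comp]
      show e.functor.map (m i) ≫ e.functor.map (e.inverse.map q) = 0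
      have h0 : (e.functor.map (m i) ≫ e.counitIso.hom.app (ModuleCat.of R R)) ≫ q = 0 :=
        ModuleCat.hom_ext (LinearMap.ext fun x =>
          (Submodule.Quotient.mk_eq_zero _).2 (Submodule.mem_iSup_of_mem i ⟨x, rfl⟩))
      rw [Category.assoc] at h0
      rw [Equivalence.fun_inv_map]
      refine ((congrArg (e.functor.map (m i) ≫ ·) (Category.assoc _ _ _).symm).trans
        (Category.assoc _ _ _).symm).trans ?_
      exact (congrArg (· ≫ _) h0).trans zero_comp
    have hq : q = 0 := by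
      apply e.inverse.map_injective
      rw [Functor.map_zero]
      exact hg
    rw [← Submodule.ker_mkQ (⨆ i, rg i), LinearMap.ker_eq_top]
    exact congrArg ModuleCat.Hom.hom hq
  obtain ⟨s, hs⟩ := (Submodule.mem_iSup_iff_exists_finset (p := rg) (m := (1 : R))).1 (htop ▸ Submodule.mem_top)
  refine ⟨s, fun Z g hg => ?_⟩
  apply (el_bijective e Z).1
  have h0 : el e (0 : gen e ⟶ Z) = 0 := by simp [el]
  rw [h0]
  have hle : (⨆ i ∈ s, rg i) ≤ LinearMap.ker (e.counitIso.inv.app (ModuleCat.of R R) ≫ e.functor.map g).hom := by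
    refine iSup₂_le fun i hi => ?_
    rintro _ ⟨x, rfl⟩
    show (e.counitIso.inv.app _ ≫ e.functor.map g).hom ((e.functor.map (m i) ≫ e.counitIso.hom.app _).hom x) = 0
    have h1 : (e.functor.map (m i) ≫ e.counitIso.hom.app (ModuleCat.of R R)) ≫
        e.counitIso.inv.app (ModuleCat.of R R) ≫ e.functor.map g = 0 := by
      rw [Category.assoc, Iso.hom_inv_id_app_assoc]
      simp [← Functor.map_comp, hg i hi]
    exact LinearMap.congr_fun (congrArg ModuleCat.Hom.hom h1) x
  exact hle hs

end morita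

section chart

variable [QuasiSeparatedSpace X] {U : X.Opens} (hU : IsAffineOpen U)

/-- Modules on an affine open, extended to the scheme. -/
def ext (N : ModuleCat.{u} Γ(X, U)) : QCohCat.QCoh X :=
  ⟨(Scheme.Modules.pushforward hU.fromSpec).obj (tilde N), by
    haveI : QuasiCompact hU.fromSpec := quasiCompact_of_compactSpace hU.fromSpec
    exact QCoh.isQCoh_pushforward hU.fromSpec (inferInstanceAs (tilde N).IsQuasicoherent)⟩

/-- Functoriality of `ext`. -/
def extMap {N N' : ModuleCat.{u} Γ(X, U)} (l : N ⟶ N') : ext hU N ⟶ ext hU N' :=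
  ObjectProperty.homMk ((Scheme.Modules.pushforward hU.fromSpec).map ((tilde.functor Γ(X, U)).map l))

theorem extMap_surjective {N N' : ModuleCat.{u} Γ(X, U)} : Function.Surjective (extMap hU (N := N) (N' := N')) := fun ψ => by
  obtain ⟨φ, hφ⟩ := (Scheme.Modules.pushforward hU.fromSpec).map_surjective ψ.hom
  obtain ⟨l, rfl⟩ := (tilde.functor Γ(X, U)).map_surjective φ
  exact ⟨l, ObjectProperty.hom_ext _ hφ⟩

/-- A morphism into an extended module on sections. -/
def sect {F : QCohCat.QCoh X} {N : ModuleCat.{u} Γ(X, U)} (w : F ⟶ ext hU N) : Γ(F.obj, U) →ₗ[Γ(X, U)] N :=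
  ((moduleSpecΓFunctor.map ((Scheme.Modules.restrictFunctor hU.fromSpec).map w.hom ≫
    (Scheme.Modules.restrictAdjunction hU.fromSpec).counit.app (tilde N)) ≫
      ((tilde.toTildeΓNatIso (R := Γ(X, U))).app N).inv).hom).comp (QCoh.chartEquiv hU F.obj).toLinearMap

theorem sect_add {F : QCohCat.QCoh X} {N : ModuleCat.{u} Γ(X, U)} (w w' : F ⟶ ext hU N) :
    sect hU (w + w') = sect hU w + sect hU w' := by
  refine LinearMap.ext fun x => ?_
  exact (congrArg (fun y => ((tilde.toTildeΓNatIso (R := Γ(X, U))).app N).inv.hom y) (map_add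
    (((Scheme.Modules.restrictAdjunction hU.fromSpec).counit.app (tilde N)).app ⊤).hom _ _)).trans
      (map_add ((tilde.toTildeΓNatIso (R := Γ(X, U))).app N).inv.hom _ _)

theorem sect_bijective (F : QCohCat.QCoh X) (N : ModuleCat.{u} Γ(X, U)) :
    Function.Bijective (sect hU (F := F) (N := N)) := by
  let M := F.obj.restrict hU.fromSpec
  haveI : IsIso M.fromTildeΓ := (isQuasicoherent_iff_isIso_fromTildeΓ M).1 (QCoh.isQCoh_restrict hU.fromSpec F.2)
  have h1 : Function.Bijective fun w : F ⟶ ext hU N =>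
      (Scheme.Modules.restrictFunctor hU.fromSpec).map w.hom ≫
        (Scheme.Modules.restrictAdjunction hU.fromSpec).counit.app (tilde N) := by
    have hb := (((Scheme.Modules.restrictAdjunction hU.fromSpec).homEquiv F.obj (tilde N)).symm.bijective).comp
      ((QCohCat.isQCoh X).fullyFaithfulι.map_bijective F (ext hU N))
    have heq : (fun w : F ⟶ ext hU N => (Scheme.Modules.restrictFunctor hU.fromSpec).map w.hom ≫
        (Scheme.Modules.restrictAdjunction hU.fromSpec).counit.app (tilde N)) =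
        fun w => ((Scheme.Modules.restrictAdjunction hU.fromSpec).homEquiv F.obj (tilde N)).symm w.hom :=
      funext fun w => (Adjunction.homEquiv_counit (adj := Scheme.Modules.restrictAdjunction hU.fromSpec)
        (X := F.obj) (Y := tilde N) (g := w.hom)).symm
    rw [heq]
    exact hb
  have h2 : Function.Bijective fun w : M ⟶ tilde N => moduleSpecΓFunctor.map w := by
    convert (((tilde.adjunction (R := Γ(X, U))).homEquiv (moduleSpecΓFunctor.obj M) (tilde N)).bijective).comp
      ((asIso M.fromTildeΓ).homFromEquiv (Z := tilde N)).symm.bijective using 1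
    funext w
    show moduleSpecΓFunctor.map w = (tilde.adjunction (R := Γ(X, U))).homEquiv _ _ (M.fromTildeΓ ≫ w)
    rw [Adjunction.homEquiv_unit, Functor.map_comp, ← Category.assoc]
    refine ((Category.id_comp _).symm.trans ?_)
    exact congrArg (· ≫ _) ((tilde.adjunction (R := Γ(X, U))).right_triangle_components M).symm
  have h3 : Function.Bijective fun g : moduleSpecΓFunctor.obj M ⟶ moduleSpecΓFunctor.obj (tilde N) =>
      (g ≫ ((tilde.toTildeΓNatIso (R := Γ(X, U))).app N).inv).hom.comp (QCoh.chartEquiv hU F.obj).toLinearMap := by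
    refine ⟨fun g g' h => ?_, fun l => ⟨(show moduleSpecΓFunctor.obj M ⟶ N from
      @ModuleCat.ofHom Γ(X, U) _ (moduleSpecΓFunctor.obj M) N _ (moduleSpecΓFunctor.obj M).isModule _ N.isModule
        (l.comp (QCoh.chartEquiv hU F.obj).symm.toLinearMap)) ≫
      ((tilde.toTildeΓNatIso (R := Γ(X, U))).app N).hom, ?_⟩⟩
    · rw [← cancel_mono ((tilde.toTildeΓNatIso (R := Γ(X, U))).app N).inv]
      refine ModuleCat.hom_ext (LinearMap.ext fun y => ?_)
      obtain ⟨y, rfl⟩ := (QCoh.chartEquiv hU F.obj).surjective y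
      exact LinearMap.congr_fun h y
    · refine LinearMap.ext fun x => ?_
      simp
      exact congrArg l ((QCoh.chartEquiv hU F.obj).symm_apply_apply x)
  exact h3.comp (h2.comp h1)

theorem sect_comp_extMap {F : QCohCat.QCoh X} {N N' : ModuleCat.{u} Γ(X, U)} (w : F ⟶ ext hU N) (l : N ⟶ N') :
    sect hU (w ≫ extMap hU l) = l.hom.comp (sect hU w) := by
  have h : moduleSpecΓFunctor.map ((Scheme.Modules.restrictFunctor hU.fromSpec).map (w ≫ extMap hU l).hom ≫
      (Scheme.Modules.restrictAdjunction hU.fromSpec).counit.app (tilde N')) ≫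
        ((tilde.toTildeΓNatIso (R := Γ(X, U))).app N').inv =
      (moduleSpecΓFunctor.map ((Scheme.Modules.restrictFunctor hU.fromSpec).map w.hom ≫
        (Scheme.Modules.restrictAdjunction hU.fromSpec).counit.app (tilde N)) ≫
          ((tilde.toTildeΓNatIso (R := Γ(X, U))).app N).inv) ≫ l := by
    have n1 := (Scheme.Modules.restrictAdjunction hU.fromSpec).counit.naturality ((tilde.functor Γ(X, U)).map l)
    have n2 := (tilde.toTildeΓNatIso (R := Γ(X, U))).inv.naturality l
    simp only [Functor.id_map, Functor.comp_map] at n1 n2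
    simp only [extMap, ObjectProperty.FullSubcategory.comp_hom, ObjectProperty.homMk_hom, Iso.app_inv]
    rw [Category.assoc, ← n2, ← Category.assoc (moduleSpecΓFunctor.map _), ← Functor.map_comp]
    refine congrArg (fun t => moduleSpecΓFunctor.map t ≫ _) ?_
    exact (congrArg (· ≫ _) (Functor.map_comp _ _ _)).trans
      ((Category.assoc _ _ _).trans (congrArg (_ ≫ ·) n1))
  unfold sect
  rw [h]
  rfl

theorem sect_precomp {F F' : QCohCat.QCoh X} {N : ModuleCat.{u} Γ(X, U)} (g : F' ⟶ F) (w : F ⟶ ext hU N) :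
    sect hU (g ≫ w) = (sect hU w).comp (ExtPowSh.appL g.hom U) := by
  refine LinearMap.ext fun x => ?_
  show _ = (sect hU w) (ExtPowSh.appL g.hom U x)
  simp only [sect, ObjectProperty.FullSubcategory.comp_hom, Functor.map_comp, Category.assoc]
  refine congrArg (fun y => ((moduleSpecΓFunctor.map ((Scheme.Modules.restrictFunctor hU.fromSpec).map w.hom) ≫ moduleSpecΓFunctor.map
    ((Scheme.Modules.restrictAdjunction hU.fromSpec).counit.app (tilde N)) ≫
      ((tilde.toTildeΓNatIso (R := Γ(X, U))).app N).inv).hom) y) ?_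
  exact QCoh.map_app_comm g.hom _ x

section chart_morita

variable {R : Type u} [CommRing R] (e : QCohCat.QCoh X ≌ ModuleCat.{u} R) [e.functor.Additive]
include hU

/-- Fibre duals of the generator have only scalar endomorphisms. -/
theorem scalar_endo (p : Ideal Γ(X, U)) [p.IsPrime]
    (T : (Γ((gen e).obj, U) →ₗ[Γ(X, U)] p.ResidueField) →ₗ[p.ResidueField]
      (Γ((gen e).obj, U) →ₗ[Γ(X, U)] p.ResidueField)) : ∃ c : p.ResidueField, ∀ x, T x = c • x := by
  let κ : ModuleCat.{u} Γ(X, U) := ModuleCat.of Γ(X, U) p.ResidueField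
  let S : (gen e ⟶ ext hU κ) ≃+ (Γ((gen e).obj, U) →ₗ[Γ(X, U)] p.ResidueField) :=
    { Equiv.ofBijective _ (sect_bijective hU (gen e) κ) with map_add' := sect_add hU }
  have hS : ∀ w, S w = sect hU w := fun _ => rfl
  have post : ∀ ψ : ext hU κ ⟶ ext hU κ, ∃ c : p.ResidueField, ∀ w, S (w ≫ ψ) = c • S w := fun ψ => by
    obtain ⟨l, rfl⟩ := extMap_surjective hU ψ
    refine ⟨l.hom (1 : p.ResidueField), fun w => ?_⟩
    rw [hS, hS, sect_comp_extMap]
    exact LinearMap.ext fun y => linearMap_residueField p l.hom _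
  have hsc : ∀ r, ∃ c : p.ResidueField, ∀ w, S (sca e r ≫ w) = c • S w := fun r => by
    obtain ⟨ψ, hψ⟩ := exists_post e
      (AddMonoidHom.mk' (fun w : gen e ⟶ ext hU κ => sca e r ≫ w) fun a b => Preadditive.comp_add _ _ _ _ _ _)
      fun s w => sca_comm e r s w
    obtain ⟨c, hc⟩ := post ψ
    exact ⟨c, fun w => (congrArg S (hψ w)).trans (hc w)⟩
  obtain ⟨ψ, hψ⟩ := exists_post e ((S.symm.toAddMonoidHom.comp T.toAddMonoidHom).comp S.toAddMonoidHom)
    fun r w => by
      obtain ⟨c, hc⟩ := hsc r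
      apply S.injective
      show S (S.symm (T (S (sca e r ≫ w)))) = S (sca e r ≫ S.symm (T (S w)))
      rw [S.apply_symm_apply, hc, hc, S.apply_symm_apply, T.map_smul]
  obtain ⟨c, hc⟩ := post ψ
  refine ⟨c, fun x => ?_⟩
  obtain ⟨w, rfl⟩ := S.surjective x
  rw [← hc, ← hψ]
  exact (S.apply_symm_apply _).symm

/-- Some functional is not in a given prime. -/
theorem exists_functional (p : Ideal Γ(X, U)) [p.IsPrime] :
    ∃ (g : (gen e).obj ⟶ Coh.structureModule X) (y : Γ((gen e).obj, U)),
      (show Γ(X, U) from ExtPowSh.appL g U y) ∉ p := by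
  by_contra hcon
  push Not at hcon
  let O : QCohCat.QCoh X := ⟨Coh.structureModule X, QCoh.isQCoh_structureModule⟩
  let N : ModuleCat.{u} Γ(X, U) := ModuleCat.of Γ(X, U) (Γ(X, U) ⧸ p)
  let l : Γ(O.obj, U) →ₗ[Γ(X, U)] N := p.mkQ
  obtain ⟨ψ, hψ⟩ := (sect_bijective hU O N).2 l
  have h0 : ψ = 0 := gen_ext e ψ fun w => by
    apply (sect_bijective hU (gen e) N).1
    rw [sect_precomp, hψ]
    refine LinearMap.ext fun y => ?_
    have h1 : sect hU (0 : gen e ⟶ ext hU N) = 0 := by
      have := sect_add hU (0 : gen e ⟶ ext hU N) 0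
      simpa using this
    rw [h1]
    exact (Submodule.Quotient.mk_eq_zero p).2 (hcon w.hom y)
  have h1 : l (1 : Γ(X, U)) = 0 := by
    rw [← hψ, h0]
    have := sect_add hU (0 : O ⟶ ext hU N) 0
    have h2 : sect hU (0 : O ⟶ ext hU N) = 0 := by simpa using this
    rw [h2]
    rfl
  exact Ideal.IsPrime.ne_top' ((Ideal.eq_top_iff_one p).2 ((Submodule.Quotient.mk_eq_zero p).1 h1))

variable [CompactSpace X]

/-- The generator is finite on affine opens. -/
theorem finite_sections : Module.Finite Γ(X, U) Γ((gen e).obj, U) := by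
  classical
  have hG : Coh.IsQCoh (gen e).obj := (gen e).2
  let I := Σ V : X.affineOpens, Γ((gen e).obj, V.1)
  choose S hS hmem using fun i : I => QCoh.exists_ftOn_contains hG i.1.2
    (QCoh.extStep_qcqs i.1.2.isCompact) {i.2} (Set.finite_singleton _)
  let N : I → QCohCat.QCoh X := fun i => ⟨(S i).toModules, QCoh.isQCoh_of_ftOn hG (hS i)⟩
  let m : ∀ i, N i ⟶ gen e := fun i => ObjectProperty.homMk (S i).ι
  obtain ⟨s, hs⟩ := exists_finite_jointly e m fun Z g hg => by
    refine ObjectProperty.hom_ext _ (ExtPowSh.hom_eq_zero_of_isBasis g.hom X.isBasis_affineOpens fun V hV t => ?_)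
    obtain ⟨t', ht'⟩ := (S ⟨⟨V, hV⟩, t⟩).exists_app_eq (show t ∈ (S ⟨⟨V, hV⟩, t⟩).mem V from hmem ⟨⟨V, hV⟩, t⟩ rfl)
    show g.hom.app V t = 0
    rw [← ht']
    exact congr($(congrArg InducedCategory.Hom.hom (hg ⟨⟨V, hV⟩, t⟩)) |>.app V t')
  let J : Submodule Γ(X, U) Γ((gen e).obj, U) :=
    ⨆ i ∈ s, LinearMap.range (ExtPowSh.appL (m i).hom U)
  have hJ : J = ⊤ := by
    let Q : ModuleCat.{u} Γ(X, U) := ModuleCat.of Γ(X, U) (Γ((gen e).obj, U) ⧸ J)
    obtain ⟨g, hg⟩ := (sect_bijective hU (gen e) Q).2 J.mkQ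
    have h0 : ∀ F : QCohCat.QCoh X, sect hU (0 : F ⟶ ext hU Q) = 0 := fun F => by
      simpa using sect_add hU (0 : F ⟶ ext hU Q) 0
    have hg0 : g = 0 := hs _ g fun i hi => by
      apply (sect_bijective hU (N i) Q).1
      rw [sect_precomp, hg, h0]
      exact LinearMap.ext fun y => (Submodule.Quotient.mk_eq_zero J).2
        (Submodule.mem_iSup_of_mem i (Submodule.mem_iSup_of_mem hi ⟨y, rfl⟩))
    rw [← Submodule.ker_mkQ J, LinearMap.ker_eq_top, ← hg, hg0]
    exact h0 _
  refine ⟨?_⟩
  rw [← hJ]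
  refine Submodule.fg_biSup s _ fun i _ => ?_
  haveI : Module.Finite Γ(X, U) ((N i).obj.val.obj (op U)) :=
    QCoh.finite_of_isFT (N i).2 (QCoh.isFT_of_ftOn hG (hS i)) hU
  exact Module.Finite.fg_top.map (ExtPowSh.appL (m i).hom U) |> fun h => by rwa [Submodule.map_top] at h

end chart_morita

end chart

section main

theorem flf {L : X.Modules} (hL : PicF.IsInvertible L) : FlatMod.IsFinLocFree L :=
  fun x => let ⟨U, hx, ⟨e⟩⟩ := hL x
    ⟨U, 1, hx, ⟨e ≪≫ (coproductUniqueIso fun _ : Fin 1 => Coh.structureModule (U : Scheme.{u})).symm⟩⟩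

variable [CompactSpace X] [QuasiSeparatedSpace X] {R : Type u} [CommRing R]
  (e : QCohCat.QCoh X ≌ ModuleCat.{u} R) [e.functor.Additive]

/-- The generator is invertible. -/
theorem isInvertible_gen : PicF.IsInvertible (gen e).obj := by
  intro x
  obtain ⟨_, ⟨U, hU, rfl⟩, hxU, -⟩ :=
    X.isBasis_affineOpens.exists_subset_of_mem_open (show x ∈ ((⊤ : X.Opens) : Set X) from trivial) (⊤ : X.Opens).2
  let q := hU.primeIdealOf ⟨x, hxU⟩
  haveI := finite_sections hU e
  obtain ⟨g, y, hy⟩ := exists_functional hU e q.asIdeal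
  let φ : Γ((gen e).obj, U) →ₗ[Γ(X, U)] Γ(X, U) := ExtPowSh.appL g U
  obtain ⟨a₀, ha₀, hspan⟩ := exists_smul_mem_span q.asIdeal (fun T => scalar_endo hU e q.asIdeal T) φ y hy
  let f : Γ(X, U) := a₀ * φ y
  have hf : f ∉ q.asIdeal := fun h => (q.2.mem_or_mem h).elim ha₀ hy
  let V := X.basicOpen f
  have hV : IsAffineOpen V := hU.basicOpen f
  have hxV : x ∈ V := by
    exact (QCoh.mem_basicOpen_iff_notMem hU hxU f).2 hf
  let M := (gen e).obj
  let res : Γ(X, U) →+* Γ(X, V) := (X.presheaf.map (homOfLE (X.basicOpen_le f)).op).hom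
  let v : Γ(M, V) := M.val.map (homOfLE (X.basicOpen_le f)).op y
  let φV : Γ(M, V) →ₗ[Γ(X, V)] Γ(X, V) := ExtPowSh.appL g V
  have hφv : φV v = res (φ y) := (ExtPowSh.map_appL g (X.basicOpen_le f) y).symm
  have hfu : IsUnit (res f) := RingedSpace.isUnit_res_basicOpen X.toRingedSpace f
  have hu : IsUnit (res (φ y)) := by
    rw [show res f = res a₀ * res (φ y) from map_mul res _ _] at hfu
    exact isUnit_of_mul_isUnit_right hfu
  have ha : IsUnit (res a₀) := by
    rw [show res f = res a₀ * res (φ y) from map_mul res _ _] at hfu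
    exact isUnit_of_mul_isUnit_left hfu
  have hbij : Function.Bijective fun a : Γ(X, V) => a • v := by
    refine ⟨fun a b h => ?_, fun z => ?_⟩
    · have := congrArg φV h
      simp only [map_smul, smul_eq_mul, hφv] at this
      exact hu.mul_left_injective this
    · letI := QCoh.basicModule f M
      haveI := QCoh.isLocalizedModule_basicRes (f := f) (gen e).2 hU
      obtain ⟨⟨z₀, ⟨_, k, rfl⟩⟩, hz⟩ := IsLocalizedModule.surj (Submonoid.powers f) (QCoh.basicRes f M) z
      obtain ⟨a, hab⟩ := hspan z₀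
      have hk : IsUnit (res f ^ k * res a₀) := (hfu.pow k).mul ha
      refine ⟨(hk.unit⁻¹ : Γ(X, V)ˣ) * res a, ?_⟩
      have h1 : res f ^ k • z = QCoh.basicRes f M z₀ := by
        rw [← map_pow]; exact hz
      have h2 : res a₀ • QCoh.basicRes f M z₀ = res a • v := by
        have := congrArg (QCoh.basicRes f M) hab
        rwa [map_smul, map_smul] at this
      show ((hk.unit⁻¹ : Γ(X, V)ˣ) * res a : Γ(X, V)) • v = z
      rw [mul_smul, ← h2, ← h1, smul_smul (res a₀), mul_comm (res a₀), smul_smul, IsUnit.val_inv_mul, one_smul]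
  let l₀ : Γ(X, V) ≃ₗ[Γ(X, V)] Γ(M, V) := LinearEquiv.ofBijective (LinearMap.toSpanSingleton Γ(X, V) Γ(M, V) v) hbij
  let l : Γ(M, V) ≃ₗ[Γ(X, V)] (ULift.{u} (Fin 1) →₀ Γ(X, V)) :=
    l₀.symm.trans (Finsupp.LinearEquiv.finsuppUnique Γ(X, V) Γ(X, V) (ULift.{u} (Fin 1))).symm
  obtain ⟨i⟩ := QCoh.exists_free_restrict (gen e).2 hV l
  exact ⟨V, hxV, ⟨i ≪≫ coproductUniqueIso (fun _ : Fin 1 => Coh.structureModule (V : Scheme.{u}))⟩⟩

include e in
/-- Global sections are exact. -/
theorem app_top_surjective {F F'' : X.Modules} (hF : Coh.IsQCoh F) (hF'' : Coh.IsQCoh F'')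
    (p : F ⟶ F'') [Epi p] : Function.Surjective (p.app ⊤) := by
  intro z
  obtain ⟨D, hD, ⟨i⟩⟩ := H23.PicInv.exists_inverse (isInvertible_gen e)
  have hDl : FlatMod.IsFinLocFree D := flf hD
  have hh : ∀ {G : X.Modules}, Coh.IsQCoh G → Coh.IsQCoh ((SheafHomX.hom D).obj G) := fun {G} hG =>
    (QCoh.isQCoh_iff_iso ((ExtFX.etaIso hDl).app G)).1
      (CohBasic.isQCoh_tensorMod hG (QCoh.isQCoh_of_isFinLocFree (SheafHomX.isFinLocFree_hom hDl
        (flf InvX.isInvertible_structureModule))))
  obtain ⟨h₁, h₂, -⟩ := ExtFX.exactness_hom hDl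
  haveI : Epi ((SheafHomX.hom D).map p) := inferInstance
  let p' : (⟨_, hh hF⟩ : QCohCat.QCoh X) ⟶ ⟨_, hh hF''⟩ := ObjectProperty.homMk ((SheafHomX.hom D).map p)
  haveI : Epi p' := (QCohCat.isQCoh X).ι.epi_of_epi_map (f := p') (inferInstanceAs (Epi ((SheafHomX.hom D).map p)))
  let q : (SheafHomX.ten D).obj (gen e).obj ⟶ F'' := i.hom ≫ InvX.ofSect z
  obtain ⟨w, hw⟩ := gen_lift e p' (ObjectProperty.homMk ((SheafHomX.adj D).homEquiv _ _ q))
  let s : Coh.structureModule X ⟶ F := i.inv ≫ ((SheafHomX.adj D).homEquiv _ _).symm w.hom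
  have hs : s ≫ p = InvX.ofSect z := by
    show (i.inv ≫ _) ≫ p = _
    rw [Category.assoc, ← Adjunction.homEquiv_naturality_right_symm]
    have hw' : w.hom ≫ (SheafHomX.hom D).map p = (SheafHomX.adj D).homEquiv _ _ q := congrArg InducedCategory.Hom.hom hw
    rw [hw', Equiv.symm_apply_apply, Iso.inv_hom_id_assoc]
  refine ⟨s.app ⊤ (1 : Γ(X, ⊤)), ?_⟩
  refine Eq.trans ?_ (InvX.one_ofSect z)
  exact congr($(hs).app ⊤ (1 : Γ(X, ⊤)))

include e in
/-- The scheme is affine. -/
theorem isAffine : IsAffine X :=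
  CohBasic.isAffine_of_surjSub fun n F F'' i p _ hp hF hF'' => by
    haveI := hp
    exact app_top_surjective e hF hF'' p

end main

end Groth.Agent.QCohMorita
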